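import Mathlib.FieldTheory.IsAlgClosed.Basic
import Mathlib.LinearAlgebra.FiniteDimensional.Lemmas

/-!
# Hopf's inequality in a field over an algebraically closed field

`dim VW ≥ dim V + dim W - 1` by Dyson transforms.
-/

set_option autoImplicit false

namespace Groth.Agent.HopfSec23

variable {k L : Type*} [Field k] [IsAlgClosed k] [Field L] [Algebra k L]

/-- A finite dimensional nonzero space is only stable under scalars. -/
theorem eq_algebraMap_of_stable (W : Submodule k L) [FiniteDimensional k W] (hW : W ≠ ⊥) {x : L}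
    (hx : ∀ w ∈ W, x * w ∈ W) : ∃ c : k, algebraMap k L c = x := by
  obtain ⟨w₀, hw₀, hne⟩ := Submodule.exists_mem_ne_zero_of_ne_bot hW
  let S : Subalgebra k L :=
    { carrier := {x | ∀ w ∈ W, x * w ∈ W}
      mul_mem' := fun {a b} ha hb w hw => by rw [mul_assoc]; exact ha _ (hb w hw)
      one_mem' := fun w hw => by rw [one_mul]; exact hw
      add_mem' := fun {a b} ha hb w hw => by rw [add_mul]; exact W.add_mem (ha w hw) (hb w hw)
      zero_mem' := fun w _ => by rw [zero_mul]; exact W.zero_mem
      algebraMap_mem' := fun c w hw => by rw [← Algebra.smul_def]; exact W.smul_mem c hw }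
  let f : S →ₗ[k] W :=
    { toFun := fun s => ⟨(s : L) * w₀, s.2 w₀ hw₀⟩
      map_add' := fun a b => Subtype.ext (add_mul _ _ _)
      map_smul' := fun c a => Subtype.ext (smul_mul_assoc _ _ _) }
  haveI : Module.Finite k S := Module.Finite.of_injective f fun a b hab =>
    Subtype.ext (mul_right_cancel₀ hne (congrArg Subtype.val hab))
  obtain ⟨c, hc⟩ := (IsAlgClosed.algebraMap_bijective_of_isIntegral (k := k) (K := S)).2 ⟨x, hx⟩
  exact ⟨c, congrArg Subtype.val hc⟩

theorem finrank_add_le_of_one_mem (n : ℕ) : ∀ (U V W : Submodule k L) [FiniteDimensional k U] [FiniteDimensional k V]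
    [FiniteDimensional k W], Module.finrank k V ≤ n → (1 : L) ∈ V → W ≠ ⊥ → (∀ v ∈ V, ∀ w ∈ W, v * w ∈ U) →
      Module.finrank k V + Module.finrank k W ≤ Module.finrank k U + 1 := by
  induction n with
  | zero =>
    intro U V W _ _ _ hn h1 _ _
    rw [Nat.le_zero, Submodule.finrank_eq_zero] at hn
    rw [hn, Submodule.mem_bot] at h1
    exact absurd h1 one_ne_zero
  | succ n ih =>
    intro U V W _ _ _ hn h1 hW h
    have hWU : W ≤ U := fun w hw => by simpa using h 1 h1 w hw
    by_cases hst : ∀ e ∈ W, ∀ v ∈ V, e * v ∈ W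
    · have hV : V ≤ Submodule.span k {(1 : L)} := fun v hv => by
        obtain ⟨c, hc⟩ := eq_algebraMap_of_stable W hW (x := v) fun w hw => by
          rw [mul_comm]; exact hst w hw v hv
        exact Submodule.mem_span_singleton.2 ⟨c, by rw [← hc, Algebra.smul_def, mul_one]⟩
      have h2 := Submodule.finrank_mono hV
      rw [finrank_span_singleton (one_ne_zero : (1 : L) ≠ 0)] at h2
      have := Submodule.finrank_mono hWU
      omega
    · push Not at hst
      obtain ⟨e, he, v, hv, hev⟩ := hst
      have he0 : e ≠ 0 := fun h0 => hev (by rw [h0, zero_mul]; exact W.zero_mem)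
      let μ : L →ₗ[k] L := LinearMap.mulLeft k e
      have hμ : Function.Injective μ := fun a b hab => mul_left_cancel₀ he0 hab
      let V' := V ⊓ W.comap μ
      let W' := W ⊔ V.map μ
      haveI : FiniteDimensional k V' := Submodule.finiteDimensional_of_le (inf_le_left : V ⊓ W.comap μ ≤ V)
      have hlt : V' < V := lt_of_le_of_ne inf_le_left fun heq => hev (by
        have := heq.ge hv
        exact this.2)
      have h1' : (1 : L) ∈ V' := ⟨h1, show e * 1 ∈ W by rw [mul_one]; exact he⟩
      have hW' : W' ≠ ⊥ := fun hb => hW (le_bot_iff.1 (hb ▸ le_sup_left))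
      have hprod : ∀ a ∈ V', ∀ w ∈ W', a * w ∈ U := by
        rintro a ⟨ha, hea⟩ w hw
        obtain ⟨w₁, hw₁, _, ⟨b, hb, rfl⟩, rfl⟩ := Submodule.mem_sup.1 hw
        rw [mul_add]
        refine U.add_mem (h a ha w₁ hw₁) ?_
        show a * (e * b) ∈ U
        rw [show a * (e * b) = b * (e * a) by ring]
        exact h b hb _ hea
      have hlt' := Submodule.finrank_lt_finrank_of_lt hlt
      have := ih U V' W' (by omega) h1' hW' hprod
      have e1 : Module.finrank k V' = Module.finrank k ↥(W ⊓ V.map μ) := by
        rw [(Submodule.equivMapOfInjective μ hμ V').finrank_eq]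
        congr 2
        all_goals rw [Submodule.map_inf _ hμ, Submodule.map_comap_eq, inf_comm]
        all_goals
          refine le_antisymm (inf_le_inf inf_le_right le_rfl) ?_
          exact le_inf (le_inf (inf_le_right.trans LinearMap.map_le_range) inf_le_left) inf_le_right
      have e2 := Submodule.finrank_sup_add_finrank_inf_eq W (V.map μ)
      have e3 := (Submodule.equivMapOfInjective μ hμ V).finrank_eq
      simp only [V', W'] at this e1
      omega

/-- Hopf's inequality. -/
theorem finrank_add_le (U V W : Submodule k L) [FiniteDimensional k U] [FiniteDimensional k V]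
    [FiniteDimensional k W] (hV : V ≠ ⊥) (hW : W ≠ ⊥) (h : ∀ v ∈ V, ∀ w ∈ W, v * w ∈ U) :
    Module.finrank k V + Module.finrank k W ≤ Module.finrank k U + 1 := by
  obtain ⟨v₀, hv₀, hne⟩ := Submodule.exists_mem_ne_zero_of_ne_bot hV
  let μ : L →ₗ[k] L := LinearMap.mulLeft k v₀⁻¹
  have hμ : Function.Injective μ := fun a b hab => mul_left_cancel₀ (inv_ne_zero hne) hab
  have := finrank_add_le_of_one_mem (Module.finrank k (V.map μ)) (U.map μ) (V.map μ) W le_rfl
    ⟨v₀, hv₀, inv_mul_cancel₀ hne⟩ hW (by
      rintro _ ⟨v, hv, rfl⟩ w hw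
      exact ⟨v * w, h v hv w hw, (mul_assoc v₀⁻¹ v w).symm⟩)
  rw [← (Submodule.equivMapOfInjective μ hμ V).finrank_eq, ← (Submodule.equivMapOfInjective μ hμ U).finrank_eq] at this
  exact this

end Groth.Agent.HopfSec23
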