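import Groth.Agent.HopfSec23.Field
import Groth.Agent.RefHullLib.GenericStalk
import Groth.Agent.SyzygyLF.Basic
import Groth.Agent.DCat.PullTensor
import Groth.Agent.Coherent.TensorQcoh
import Groth.Agent.CurveRR24.AlgClosed
import Groth.Agent.CurveRR24.Section
import Groth.Agent.CurveRR24.DegGroup
import Mathlib.RingTheory.Localization.FractionRing
import Mathlib.RingTheory.MvPolynomial.Basic

/-!
# `h⁰(E₁) + h⁰(E₂) ≤ h⁰(E₁ ⊗ E₂) + 1`
-/

set_option autoImplicit false
set_option linter.style.haveILetI false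
set_option linter.unusedSectionVars false
set_option backward.isDefEq.respectTransparency.types false

universe u

open CategoryTheory CategoryTheory.Limits AlgebraicGeometry Opposite TopologicalSpace
open Groth.Agent.Coherent Groth.Agent.PicLib Groth.Agent.CurveRR24
open Groth.Agent.ModStalk Groth.Agent.AmpleLib
open scoped TensorProduct

namespace Groth.Agent.HopfSec23

/-- Two finite dimensional spaces multiply into a field, faithfully on each factor. -/
theorem exists_mult (K : Type u) [Field K] (A B : Type u) [AddCommGroup A] [Module K A] [AddCommGroup B] [Module K B]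
    [FiniteDimensional K A] [FiniteDimensional K B] :
    ∃ (L : Type u) (_ : Field L) (_ : Algebra K L) (f : A →ₗ[K] L) (g : B →ₗ[K] L),
      Function.Injective f ∧ Function.Injective g := by
  classical
  let bA := Module.finBasis K A
  let bB := Module.finBasis K B
  let P := MvPolynomial (Fin (Module.finrank K A) ⊕ Fin (Module.finrank K B)) K
  refine ⟨FractionRing P, inferInstance, inferInstance,
    (IsScalarTower.toAlgHom K P (FractionRing P)).toLinearMap ∘ₗ bA.constr K fun i => (MvPolynomial.X (Sum.inl i) : P),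
    (IsScalarTower.toAlgHom K P (FractionRing P)).toLinearMap ∘ₗ bB.constr K fun i => (MvPolynomial.X (Sum.inr i) : P),
    ?_, ?_⟩
  all_goals
    refine (IsFractionRing.injective P (FractionRing P)).comp ?_
  all_goals
    refine (injective_iff_map_eq_zero _).2 fun a ha => ?_
    rw [Module.Basis.constr_apply_fintype] at ha
  · refine bA.repr.injective (Finsupp.ext fun j => ?_)
    have := congrArg (MvPolynomial.aeval (Pi.single (Sum.inl j) (1 : K))) ha
    simpa [map_sum, map_smul, Pi.single_apply] using this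
  · refine bB.repr.injective (Finsupp.ext fun j => ?_)
    have := congrArg (MvPolynomial.aeval (Pi.single (Sum.inr j) (1 : K))) ha
    simpa [map_sum, map_smul, Pi.single_apply] using this

variable {X : Scheme.{u}} (k : Type u) [Field k] [IsAlgClosed k] [X.Over (Spec (CommRingCat.of k))]
  [IsProper (X ↘ Spec (CommRingCat.of k))] [IsIntegral X]

/-- A section of a vector bundle on an integral scheme is determined at the generic point. -/
theorem germ_injective [IsLocallyNoetherian X] {E : X.Modules} (hE : FlatMod.IsFinLocFree E)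
    (s : Γ(E, ⊤)) (hs : E.presheaf.germ ⊤ (genericPoint X) trivial s = 0) : s = 0 :=
  RefHullLib.section_ext_of_germ_genericPoint _ (Coherent.CohBC.isCoh_of_isFinLocFree hE).1
    (fun x _ => haveI := SyzygyLF.free_stalk hE x; inferInstance) s 0 fun _ => hs.trans (map_zero _).symm

include k in
/-- Hopf's inequality for sections of vector bundles. -/
theorem finrank_h0_add_le {E₁ E₂ : X.Modules} (h₁ : FlatMod.IsFinLocFree E₁) (h₂ : FlatMod.IsFinLocFree E₂)
    [Nontrivial (Coh.HH X E₁ 0)] [Nontrivial (Coh.HH X E₂ 0)] :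
    Module.finrank k (Coh.HH X E₁ 0) + Module.finrank k (Coh.HH X E₂ 0) ≤
      Module.finrank k (Coh.HH X (CohB1.tensorMod E₁ E₂) 0) + 1 := by
  haveI := EulerLib.isNoetherian_of_proper (X := X) k
  let η := genericPoint X
  let K := X.presheaf.stalk η
  have hK : IsField K := Field.toIsField X.functionField
  letI : Field K := hK.toField
  have hc₁ := Coherent.CohBC.isCoh_of_isFinLocFree h₁
  have hc₂ := Coherent.CohBC.isCoh_of_isFinLocFree h₂
  haveI : Module.Finite K ((DerSch.stalkFunctor X η).obj E₁) := AssSch12.finite_stalk hc₁ η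
  haveI : Module.Finite K ((DerSch.stalkFunctor X η).obj E₂) := AssSch12.finite_stalk hc₂ η
  obtain ⟨L, _, _, f, g, hf, hg⟩ := exists_mult K ((DerSch.stalkFunctor X η).obj E₁) ((DerSch.stalkFunctor X η).obj E₂)
  let φ : k →+* K := (X.presheaf.germ ⊤ η trivial).hom.comp (baseHom k X)
  letI : Algebra k L := ((algebraMap K L).comp φ).toAlgebra
  let h : (DerSch.stalkFunctor X η).obj (CohB1.tensorMod E₁ E₂) →ₗ[K] L :=
    (TensorProduct.lift ((LinearMap.mul K L).compl₁₂ f g)).comp (stalkTensorIso η E₁ E₂).hom.hom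
  let lin : ∀ E : X.Modules, ((DerSch.stalkFunctor X η).obj E →ₗ[K] L) → (GA (baseHom k X) E →ₗ[k] L) := fun E a =>
    { toFun := fun s => a (E.presheaf.germ ⊤ η trivial s)
      map_add' := fun s t => by rw [← map_add]; exact congrArg a (map_add _ _ _)
      map_smul' := fun c s => by
        show a (E.presheaf.germ ⊤ η trivial ((baseHom k X c) • (show Γ(E, ⊤) from s))) = _
        rw [QCohLoc.germ_smul']
        refine (map_smul a _ _).trans ?_
        rw [RingHom.id_apply, Algebra.smul_def, Algebra.smul_def]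
        rfl }
  have hinj : ∀ (E : X.Modules) (a : (DerSch.stalkFunctor X η).obj E →ₗ[K] L), FlatMod.IsFinLocFree E →
      Function.Injective a → Function.Injective (lin E a) := fun E a hE ha =>
    (injective_iff_map_eq_zero _).2 fun s hs => germ_injective hE s (ha (hs.trans (map_zero a).symm))
  have hfin : ∀ E : X.Modules, Coh.IsCoh E → Module.Finite k (GA (baseHom k X) E) := fun E hE =>
    haveI := CurveRR24.finite_HH_of_isCoh k hE 0
    Module.Finite.equiv (hhZero k E)
  haveI := hfin _ hc₁
  haveI := hfin _ hc₂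
  have hc : Coh.IsCoh (CohB1.tensorMod E₁ E₂) := (haveI := hc₁.1; haveI := hc₂.1; ⟨isQCoh_tensorMod E₁ E₂, isFT_tensorMod E₁ E₂ hc₁.2 hc₂.2⟩)
  haveI := hfin _ hc
  have hne : ∀ (E : X.Modules) (a : (DerSch.stalkFunctor X η).obj E →ₗ[K] L), FlatMod.IsFinLocFree E →
      Function.Injective a → Nontrivial (Coh.HH X E 0) → LinearMap.range (lin E a) ≠ ⊥ := by
    intro E a hE ha hnt e
    obtain ⟨s, hs0⟩ := exists_ne_zero_of_nontrivial k hnt
    exact hs0 (hinj E a hE ha (((Submodule.eq_bot_iff _).1 e _ ⟨s, rfl⟩).trans (map_zero _).symm))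
  rw [(hhZero k E₁).finrank_eq, (hhZero k E₂).finrank_eq, (hhZero k (CohB1.tensorMod E₁ E₂)).finrank_eq,
    ← LinearMap.finrank_range_of_inj (hinj E₁ f h₁ hf), ← LinearMap.finrank_range_of_inj (hinj E₂ g h₂ hg)]
  refine (finrank_add_le (LinearMap.range (lin _ h)) _ _ (hne E₁ f h₁ hf inferInstance) (hne E₂ g h₂ hg inferInstance)
    ?_).trans (Nat.add_le_add_right (LinearMap.finrank_range_le _) 1)
  rintro _ ⟨s, rfl⟩ _ ⟨t, rfl⟩
  refine ⟨AmpleLib.tmul (show Γ(E₁, ⊤) from s) (show Γ(E₂, ⊤) from t), ?_⟩
  show TensorProduct.lift ((LinearMap.mul K L).compl₁₂ f g) ((stalkTensorIso η E₁ E₂).hom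
    ((CohB1.tensorMod E₁ E₂).presheaf.germ ⊤ η trivial (AmpleLib.tmul (show Γ(E₁, ⊤) from s) (show Γ(E₂, ⊤) from t)))) = _
  exact (congrArg _ (DCat.PullTensor.stalkTensor_germ η E₁ E₂ ⊤ trivial s t)).trans (TensorProduct.lift.tmul _ _)

end Groth.Agent.HopfSec23
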